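import Cfsg.Agent.FiMult.Basic

/-! The cube of the spider value is trivial in a Coxeter system (generated certificate). -/

set_option autoImplicit false
set_option maxRecDepth 100000

namespace Cfsg.Agent.FiMult

open Cfsg.Spor.Fi22 (Gen)

/-- The tenth power of the spider word. -/
def spider : List Gen := (List.replicate 10 [.d, .c, .b, .d, .e, .f, .d, .h, .i]).flatten

/-- The first conjugator. -/
def conjA : List Gen := [.d, .e, .c, .d]

/-- The second conjugator. -/
def conjB : List Gen := [.i, .h, .f, .c]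

/-- The product of three conjugates of the spider value. -/
def triple : List Gen :=
  spider ++ (conjA ++ spider ++ conjA.reverse) ++ (conjB ++ spider ++ conjB.reverse)

/-- An intermediate word. -/
def mid0 : List Gen := [.d, .c, .b, .d, .e, .f, .d, .h, .i, .d, .c, .b, .d, .e, .f, .d, .h, .i, .d, .c, .b, .d, .e, .f, .d, .h, .i, .d, .c, .b, .d, .e, .f, .d, .h, .i, .d, .c, .b, .d, .e, .f, .d, .h, .i, .d, .c, .b, .d, .e, .f, .d, .h, .i, .d, .c, .b, .d, .e, .f, .d, .h, .i, .d, .c, .b, .d, .e, .f, .d, .h, .i, .d, .c, .b, .d, .e, .f, .d, .h, .i, .d, .c, .b, .d, .e, .f, .d, .h, .i, .d, .e, .c, .d, .d, .c, .b, .d, .e, .f, .d, .h, .i, .d, .c, .b, .d, .e, .f, .d, .h, .i, .d, .c, .b, .d, .e, .f, .d, .h, .i, .d, .c, .b, .d, .e, .f, .d, .h, .i, .d, .c, .b, .d, .e, .f, .d, .h, .i, .d, .c, .b, .d, .e, .f, .d, .h, .i, .d, .c, .b, .d, .e, .f, .d, .h, .i, .d, .c, .b, .d, .e, .f, .d, .h, .i, .d, .c, .b, .d, .e, .f, .d, .h, .i, .d, .c, .b, .d, .e, .f, .d, .h, .i, .d, .c, .e, .d, .i,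 .h, .f, .c, .d, .c, .b, .d, .e, .f, .d, .h, .i, .d, .c, .b, .d, .e, .f, .d, .h, .i, .d, .c, .b, .d, .e, .f, .d, .h, .i, .d, .c, .b, .d, .e, .f, .d, .h, .i, .d, .c, .b, .d, .e, .f, .d, .h, .i, .d, .c, .b, .d, .e, .f, .d, .h, .i, .d, .c, .b, .d, .e, .f, .d, .h, .i, .d, .c, .b, .d, .e, .f, .d, .h, .i, .d, .c, .b, .d, .e, .f, .d, .h, .i, .d, .c, .b, .d, .e, .f, .d, .h, .i, .c, .f, .h, .i]

/-- An intermediate word. -/
def mid1 : List Gen := [.d, .c, .b, .d, .e, .f, .d, .h, .i, .d, .c, .b, .d, .e, .f, .d, .h, .i, .d, .c, .b, .d, .e, .f, .d, .h, .i, .d, .c, .b, .d, .e, .f, .d, .h, .i, .d, .c, .b, .d, .e, .f, .d, .h, .i, .d, .c, .b, .d, .e, .d, .h, .d, .c, .b, .d, .e, .f, .c, .d, .e, .h, .i, .d, .h, .c, .d, .e, .d, .c, .b, .d, .h, .d, .c, .d, .h, .i, .e, .f, .h, .d, .e, .d, .h, .i, .c, .d, .c, .b, .d, .e, .f, .d, .h, .i, .d, .c, .b, .d, .e, .f, .d, .h, .i, .d, .c, .b, .d, .e, .f, .d, .h, .i, .d, .c, .b, .d, .e, .f, .d, .h, .i, .d, .c, .b, .d, .e, .f, .d, .h, .i, .d, .c,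 .b, .d, .e, .f, .d, .h, .i, .d, .c, .b, .d, .e, .f, .d, .h, .i, .d, .c, .e, .d, .i, .h, .f, .c, .d, .c, .b, .d, .e, .f, .d, .h, .i, .d, .c, .b, .d, .e, .f, .d, .h, .i, .d, .c, .b, .d, .e, .f, .d, .h, .i, .d, .c, .b, .d, .e, .f, .d, .h, .i, .d, .c, .b, .d, .e, .f, .d, .h, .i, .d, .c, .b, .d, .e, .f, .d, .h, .i, .d, .c, .b, .d, .e, .f, .d, .h, .i, .d, .c, .b, .d, .e, .f, .d, .h, .i, .d, .c, .b, .d, .e, .f, .d, .h, .i, .d, .c, .b, .d, .e, .f, .d, .h, .i, .c, .f, .h, .i]

/-- An intermediate word. -/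
def mid2 : List Gen := [.d, .c, .b, .d, .e, .f, .d, .h, .i, .d, .c, .b, .d, .e, .f, .d, .h, .i, .d, .c, .b, .d, .e, .f, .d, .h, .i, .d, .c, .b, .e, .d, .h, .i, .c, .d, .e, .f, .c, .d, .e, .h, .d, .c, .b, .i, .h, .d, .e, .c, .d, .h, .i, .h, .d, .c, .b, .f, .d, .e, .f, .h, .d, .e, .c, .d, .h, .b, .d, .i, .e, .f, .c, .d, .e, .b, .c, .h, .d, .c, .b, .i, .h, .c, .b, .d, .e, .f, .d, .h, .i, .d, .c, .b, .d, .e, .f, .d, .h, .i, .d, .c, .b, .d, .e, .f, .d, .h, .i, .d, .c, .b, .d, .e, .f, .d, .h, .i, .d, .c, .b, .d, .e, .f, .d, .h, .i, .d, .c, .b, .d, .e, .f, .d, .h, .i, .d, .c, .e, .d, .i, .h, .f, .c, .d, .c, .b, .d, .e, .f, .d, .h, .i, .d, .c, .b, .d, .e, .f, .d, .h, .i, .d, .c, .b, .d, .e, .f, .d, .h, .i, .d, .c, .b, .d, .e, .f, .d, .h, .i, .d, .c, .b, .d, .e, .f, .d, .h, .i, .d, .c, .b, .d, .e, .f, .d, .h, .i, .d, .c, .b, .d, .e, .f, .d, .h, .i, .d, .c, .b, .d, .e, .f, .d, .h, .i, .d, .c, .b, .d, .e, .f, .d, .h, .i, .d, .c, .b, .d, .e, .f, .d, .h, .i, .c, .f, .h, .i]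

/-- An intermediate word. -/
def mid3 : List Gen := [.d, .c, .b, .d, .e, .f, .d, .h, .d, .c, .b, .d, .e, .f, .d, .h, .i, .c, .d, .h, .e, .d, .c, .b, .i, .h, .d, .e, .f, .h, .d, .c, .e, .d, .h, .i, .h, .d, .e, .c, .d, .h, .f, .e, .d, .c, .b, .d, .e, .f, .e, .d, .c, .h, .d, .e, .f, .i, .h, .d, .c, .e, .b, .d, .h, .i, .h, .d, .e, .f, .c, .b, .d, .h, .e, .d, .c, .i, .h, .d, .e, .d, .f, .h, .d, .h, .i, .d, .c, .b, .d, .e, .f, .d, .h, .i, .d, .c, .b, .d, .e, .f, .d, .h, .i, .d, .c, .b, .d, .e, .f, .d, .h, .i, .d, .c, .b, .d, .e, .f, .d, .h, .i, .d, .c, .b, .d, .e, .f, .d, .h, .i, .d, .c, .e, .d, .i, .h, .f, .c, .d, .c, .b, .d, .e, .f, .d, .h, .i, .d, .c, .b, .d, .e, .f, .d, .h, .i, .d, .c, .b, .d, .e, .f, .d, .h, .i, .d, .c, .b, .d, .e, .f, .d, .h, .i, .d, .c, .b, .d, .e, .f, .d, .h, .i, .d, .c, .b, .d, .e, .f, .d, .h, .i, .d, .c, .b, .d, .e, .f, .d, .h, .i, .d, .c, .b, .d, .e, .f, .d, .h, .i, .d, .c, .b, .d, .e, .f, .d, .h, .i, .d, .c, .b, .d, .e, .f, .d, .h, .i, .c,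 .f, .h, .i]

/-- An intermediate word. -/
def mid4 : List Gen := [.c, .d, .e, .f, .h, .d, .c, .b, .h, .d, .c, .e, .d, .h, .i, .f, .e, .d, .c, .h, .d, .e, .f, .e, .d, .h, .c, .b, .d, .e, .c, .d, .h, .i, .h, .e, .b, .c, .d, .e, .h, .f, .d, .c, .b, .e, .d, .c, .h, .d, .e, .f, .d, .h, .i, .c, .d, .e, .h, .d, .c, .b, .h, .d, .c, .h, .e, .d, .h, .i, .f, .e, .d, .c, .h, .d, .e, .f, .e, .d, .h, .i, .b, .e, .f, .d, .h, .i, .d, .c, .b, .d, .e, .f, .d, .h, .i, .d, .c, .b, .d, .e, .f, .d, .h, .i, .d, .c, .b, .d, .e, .f, .d, .h, .i, .d, .c, .b, .d, .e, .f, .d, .h, .i, .d, .c, .e, .d, .i, .h, .f, .c, .d, .c, .b, .d, .e, .f, .d, .h, .i, .d, .c, .b, .d, .e, .f, .d, .h, .i, .d, .c, .b, .d, .e, .f, .d, .h, .i, .d, .c, .b, .d, .e, .f, .d, .h, .i, .d, .c, .b, .d, .e, .f, .d, .h, .i, .d, .c, .b, .d, .e, .f, .d, .h, .i, .d, .c, .b, .d, .e, .f, .d, .h, .i, .d, .c, .b, .d, .e, .f, .d, .h, .i, .d, .c, .b, .d, .e, .f, .d, .h, .i, .d, .c, .b, .d, .e, .f, .d, .h, .i, .c, .f, .h, .i]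

/-- An intermediate word. -/
def mid5 : List Gen := [.c, .d, .e, .f, .h, .d, .c, .b, .h, .d, .c, .e, .d, .h, .i, .f, .e, .d, .c, .h, .d, .e, .f, .e, .d, .h, .c, .b, .d, .e, .c, .d, .h, .i, .h, .e, .b, .c, .d, .e, .h, .f, .c, .d, .e, .b, .c, .d, .h, .i, .d, .f, .e, .c, .d, .h, .b, .c, .d, .e, .f, .c, .b, .d, .c, .e, .d, .h, .i, .d, .e, .c, .d, .h, .b, .c, .d, .e, .f, .b, .c, .b, .d, .c, .d, .e, .f, .d, .h, .i, .d, .c, .b, .d, .e, .f, .d, .h, .i, .d, .c, .b, .d, .e, .f, .d, .h, .i, .d, .c, .e, .d, .i, .h, .f, .c, .d, .c, .b, .d, .e, .f, .d, .h, .i, .d, .c, .b, .d, .e, .f, .d, .h, .i, .d, .c, .b, .d, .e, .f, .d, .h, .i, .d, .c, .b, .d, .e, .f, .d, .h, .i, .d, .c, .b, .d, .e, .f, .d, .h, .i, .d, .c, .b, .d, .e, .f, .d, .h, .i, .d, .c, .b, .d, .e, .f, .d, .h, .i, .d, .c, .b, .d, .e, .f, .d, .h, .i, .d, .c, .b, .d, .e, .f, .d, .h, .i, .d, .c, .b, .d, .e, .f, .d, .h, .i, .c, .f, .h, .i]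

/-- An intermediate word. -/
def mid6 : List Gen := [.c, .d, .e, .f, .h, .d, .c, .b, .h, .d, .c, .e, .d, .h, .i, .f, .e, .d, .c, .h, .d, .e, .f, .e, .d, .h, .i, .b, .c, .d, .e, .c, .b, .h, .d, .c, .b, .i, .h, .d, .e, .f, .d, .h, .i, .c, .d, .h, .e, .d, .c, .b, .h, .d, .e, .i, .h, .d, .c, .f, .d, .e, .h, .d, .i, .h, .f, .e, .d, .c, .b, .d, .e, .i, .f, .h, .d, .c, .d, .e, .f, .h, .i, .d, .h, .c, .d, .b, .c, .b, .d, .e, .f, .d, .h, .i, .d, .c, .e, .d, .i, .h, .f, .c, .d, .c, .b, .d, .e, .f, .d, .h, .i, .d, .c, .b, .d, .e, .f, .d, .h, .i, .d, .c, .b, .d, .e, .f, .d, .h, .i, .d, .c, .b, .d, .e, .f, .d, .h, .i, .d, .c, .b, .d, .e, .f, .d, .h, .i, .d, .c, .b, .d, .e, .f, .d, .h, .i, .d, .c, .b, .d, .e, .f, .d, .h, .i, .d, .c, .b, .d, .e, .f, .d, .h, .i, .d, .c, .b, .d, .e, .f, .d, .h, .i, .d, .c, .b, .d, .e, .f, .d, .h, .i, .c, .f, .h, .i]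

/-- An intermediate word. -/
def mid7 : List Gen := [.c, .d, .e, .h, .d, .c, .b, .h, .d, .c, .e, .f, .d, .e, .h, .d, .c, .i, .h, .d, .e, .f, .e, .b, .c, .d, .h, .i, .d, .h, .c, .d, .e, .b, .c, .d, .h, .i, .c, .b, .d, .c, .e, .d, .h, .f, .e, .d, .c, .b, .h, .i, .d, .c, .h, .d, .e, .f, .d, .e, .h, .i, .c, .d, .h, .c, .i, .e, .d, .c, .b, .c, .h, .d, .e, .f, .d, .h, .i, .e, .d, .c, .b, .h, .d, .e, .f, .c, .d, .h, .i, .c, .e, .d, .i, .h, .f, .c, .d, .c, .b, .d, .e, .f, .d, .h, .i, .d, .c, .b, .d, .e, .f, .d, .h, .i, .d, .c, .b, .d, .e, .f, .d, .h, .i, .d, .c, .b, .d, .e, .f, .d, .h, .i, .d, .c, .b, .d, .e, .f, .d, .h, .i, .d, .c, .b, .d, .e, .f, .d, .h, .i, .d, .c, .b, .d, .e, .f, .d, .h, .i, .d, .c, .b, .d, .e, .f, .d, .h, .i, .d, .c, .b, .d, .e, .f, .d, .h, .i, .d, .c, .b, .d, .e, .f, .d, .h, .i, .c, .f, .h, .i]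

/-- An intermediate word. -/
def mid8 : List Gen := [.c, .e, .d, .h, .c, .b, .d, .e, .f, .c, .d, .e, .h, .i, .f, .d, .c, .b, .h, .d, .c, .e, .d, .h, .i, .e, .d, .h, .c, .b, .f, .e, .d, .c, .b, .h, .d, .e, .f, .d, .e, .c, .h, .d, .c, .b, .h, .i, .h, .d, .e, .f, .c, .d, .h, .i, .e, .d, .c, .b, .d, .h, .e, .d, .c, .f, .e, .d, .h, .i, .e, .f, .d, .e, .h, .d, .c, .b, .d, .h, .c, .d, .e, .f, .d, .c, .e, .d, .h, .i, .e, .d, .i, .h, .f, .c, .d, .c, .b, .d, .e, .f, .d, .h, .i, .d, .c, .b, .d, .e, .f, .d, .h, .i, .d, .c, .b, .d, .e, .f, .d, .h, .i, .d, .c, .b, .d, .e, .f, .d, .h, .i, .d, .c, .b, .d, .e, .f, .d, .h, .i, .d, .c, .b, .d, .e, .f, .d, .h, .i, .d, .c, .b, .d, .e, .f, .d, .h, .i, .d, .c, .b, .d, .e, .f, .d, .h, .i, .d, .c, .b, .d, .e, .f, .d, .h, .i, .d, .c, .b, .d, .e, .f, .d, .h, .i, .c, .f, .h, .i]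

/-- An intermediate word. -/
def mid9 : List Gen := [.c, .e, .d, .h, .b, .c, .d, .e, .f, .c, .b, .d, .c, .e, .d, .h, .i, .d, .e, .h, .d, .c, .b, .d, .h, .c, .d, .e, .f, .d, .c, .h, .d, .e, .i, .h, .d, .c, .b, .h, .i, .d, .h, .c, .d, .e, .f, .d, .c, .e, .d, .h, .i, .d, .e, .h, .c, .d, .h, .e, .c, .f, .b, .c, .d, .e, .h, .d, .b, .d, .e, .f, .d, .h, .i, .d, .c, .b, .d, .e, .f, .d, .h, .i, .d, .c, .b, .d, .e, .f, .d, .h, .i, .d, .c, .b, .d, .e, .f, .d, .h, .i, .d, .c, .b, .d, .e, .f, .d, .h, .i, .d, .c, .b, .d, .e, .f, .d, .h, .i, .d, .c, .b, .d, .e, .f, .d, .h, .i, .d, .c, .b, .d, .e, .f, .d, .h, .i, .c, .f, .h, .i]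

/-- An intermediate word. -/
def mid10 : List Gen := []

/-- Some steps. -/
def steps0 : List Move := [.cancel 93, .cancel 92, .swap 83, .swap 84, .swap 85, .swap 86, .swap 87, .swap 88, .swap 89, .swap 90, .cancel 91, .braid 89, .cancel 91, .swap 85, .swap 86, .swap 87, .braid 83, .swap 85, .swap 86, .braid 87, .swap 89, .cancel 90, .cancel 89, .swap 80, .swap 81, .swap 82, .swap 83, .braid 84, .swap 86, .swap 87, .cancel 88, .swap 85, .swap 86, .cancel 87, .braid 78, .swap 80, .swap 81, .braid 82, .swap 84, .braid 85, .swap 87, .swap 88, .swap 80, .swap 68, .swap 69, .swap 70, .swap 71, .swap 72, .swap 73, .swap 74, .braid 75, .swap 77, .braid 78, .braid 80, .swap 82, .swap 83, .swap 84, .braid 85, .swap 87, .braid 88, .cancel 90, .swap 89, .cancel 90, .swap 82, .swap 83, .swap 81, .swap 79, .swap 76, .swap 77, .swap 78, .braid 79, .braid 81, .braid 83, .swap 85, .swap 86, .swap 87, .swap 88, .cancel 89, .swap 78, .swap 79, .swap 75, .braid 76, .swap 78, .braid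 79, .swap 81, .swap 82, .braid 83, .swap 85, .swap 81, .braid 74, .swap 76, .swap 77, .swap 78, .braid 79, .braid 81, .swap 83, .swap 84, .braid 85, .swap 87, .swap 88, .cancel 89, .swap 73, .swap 74, .swap 75, .swap 76, .swap 72, .swap 62, .swap 63, .swap 64, .swap 65, .swap 66, .swap 67, .braid 68, .braid 70, .braid 72, .swap 74, .swap 75, .braid 76, .swap 78, .swap 79, .swap 80, .swap 81, .braid 82, .braid 65, .swap 67, .swap 68, .braid 60, .swap 62, .swap 63, .swap 64, .braid 65, .swap 67, .braid 68, .swap 70, .swap 71, .braid 72, .swap 74, .swap 75, .braid 76, .swap 78, .swap 79, .braid 80, .swap 82, .braid 83, .swap 85, .swap 86, .swap 87, .cancel 88, .braid 81, .swap 83, .swap 84, .swap 85, .swap 86, .cancel 87, .swap 74, .swap 75, .swap 76, .swap 77, .swap 73, .swap 74, .swap 72, .swap 63, .swap 64, .swap 65, .swap 66, .swap 67, .swap 68, .swap 69, .braid 70, .braid 72, .braid 74, .swap 76, .braid 77, .swap 79, .swap 80, .swap 81, .swap 82, .braid 83, .swap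 85, .swap 69, .swap 70, .swap 62, .swap 50, .swap 51, .swap 52, .swap 53, .swap 54, .swap 55, .swap 56, .braid 57, .swap 59, .braid 60, .braid 62, .swap 64, .swap 65, .swap 66, .braid 67, .swap 69, .braid 70, .swap 72, .swap 73, .braid 74, .swap 76, .braid 77, .swap 79, .swap 80, .braid 81, .swap 83, .swap 84, .braid 85, .cancel 87, .swap 83, .swap 82, .braid 83, .swap 85, .cancel 86, .cancel 85, .swap 78, .braid 79, .swap 81, .swap 82, .swap 83, .swap 84, .swap 85, .swap 80, .swap 81, .swap 77, .swap 78, .swap 79, .swap 76, .swap 77, .swap 78, .braid 79, .braid 81, .swap 75, .swap 76, .swap 65, .swap 66, .swap 67, .swap 68, .swap 64, .swap 61, .braid 62, .braid 64, .swap 66, .swap 67, .braid 68, .swap 70, .swap 71, .swap 72, .swap 73, .swap 74, .swap 75, .braid 76, .swap 78, .swap 79, .swap 73, .swap 71, .swap 67, .swap 68, .swap 69, .swap 70, .braid 71, .braid 73, .braid 60, .swap 62, .swap 63, .braid 64, .swap 66, .braid 67, .swap 69, .swap 70, .swap 71, .swap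 62, .swap 59, .braid 60, .braid 62, .swap 64, .swap 65, .swap 66, .braid 67, .swap 64, .swap 65, .swap 63, .swap 61, .swap 52, .swap 53, .swap 54, .swap 55, .swap 56, .swap 57, .swap 58, .swap 59, .swap 60, .braid 61, .braid 63, .braid 65, .swap 67, .braid 68, .swap 70]

theorem steps0_ok : runMoves adj steps0 mid0 = some mid1 := by decide +kernel

/-- Some steps. -/
def steps1 : List Move := [.braid 71, .swap 73, .braid 74, .swap 76, .braid 66, .swap 68, .swap 69, .swap 70, .swap 65, .braid 66, .swap 68, .swap 64, .swap 60, .swap 61, .braid 62, .braid 64, .swap 66, .swap 67, .braid 68, .braid 70, .swap 72, .swap 54, .swap 55, .swap 56, .braid 52, .swap 54, .swap 55, .braid 56, .swap 58, .swap 59, .swap 60, .swap 61, .swap 62, .swap 63, .swap 64, .braid 65, .braid 48, .swap 50, .swap 51, .braid 52, .swap 54, .swap 55, .braid 56, .swap 58, .swap 59, .swap 50, .swap 38, .swap 39, .swap 40, .swap 41, .swap 42, .swap 43, .swap 44, .braid 45, .swap 47, .braid 48, .braid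 50, .swap 52, .swap 53, .swap 54, .swap 55, .braid 56, .swap 58, .braid 59, .swap 61, .swap 62, .braid 63, .swap 65, .braid 66, .swap 68, .swap 69, .braid 70, .braid 72, .swap 74, .swap 75, .braid 76, .swap 78, .braid 79, .swap 81, .braid 82, .swap 84, .braid 85, .cancel 87, .swap 86, .cancel 87, .braid 80, .swap 82, .swap 83, .swap 84, .swap 85, .cancel 86, .swap 78, .swap 77, .braid 78, .swap 80, .swap 81, .swap 82, .swap 83, .swap 84, .cancel 85, .swap 75, .braid 73, .braid 75, .swap 77, .swap 78, .swap 79, .braid 80, .swap 82, .swap 83, .swap 76, .swap 77, .braid 78, .swap 80, .swap 71, .swap 72, .braid 69, .braid 67, .swap 69, .braid 70, .braid 72, .swap 74, .swap 75, .swap 76, .swap 73, .swap 74, .braid 68, .swap 70, .swap 71, .swap 72, .swap 53, .swap 54, .swap 55, .swap 56, .swap 57, .swap 58, .swap 59, .swap 52, .swap 53, .swap 51, .swap 49, .swap 46, .swap 47, .swap 48, .braid 49, .braid 51, .braid 53, .swap 55, .swap 56, .swap 57, .swap 48, .swap 49, .swap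 45, .braid 46, .swap 48, .braid 49, .swap 51, .swap 52, .braid 53, .swap 55, .swap 51, .braid 44, .swap 46, .swap 47, .swap 48, .braid 49, .braid 51, .swap 53, .swap 54, .braid 55, .braid 57, .braid 59, .swap 61, .swap 62, .swap 63, .swap 64, .swap 65, .swap 66, .swap 60, .swap 58, .swap 43, .swap 44, .swap 45, .swap 46, .swap 42, .swap 32, .swap 33, .swap 34, .swap 35, .swap 36, .swap 37, .braid 38, .braid 40, .braid 42, .swap 44, .swap 45, .braid 46, .swap 48, .swap 49, .swap 50, .swap 51, .braid 52, .braid 35, .swap 37, .swap 38, .braid 30, .swap 32, .swap 33, .swap 34, .braid 35, .swap 37, .braid 38, .swap 40, .swap 41, .braid 42, .swap 44, .swap 45, .braid 46, .swap 48, .swap 49, .braid 50, .swap 52, .braid 53, .swap 55, .swap 56, .swap 57, .braid 58, .braid 60, .swap 62, .swap 63, .swap 64, .swap 65, .braid 66, .swap 68, .swap 69, .swap 70, .swap 71, .braid 72, .braid 74, .braid 76, .swap 78, .swap 79, .braid 80, .swap 82, .braid 83, .cancel 85, .swap 79, .swap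 80, .swap 81, .braid 77, .swap 79, .swap 80, .braid 81, .swap 83, .cancel 84, .cancel 83, .braid 62, .swap 64, .swap 65, .swap 66, .swap 67, .swap 68, .swap 63, .swap 64, .swap 65, .swap 61, .swap 59, .swap 60, .braid 61, .swap 63, .swap 59, .swap 58, .braid 59, .swap 61, .swap 57, .swap 56, .braid 57, .swap 59, .swap 60, .braid 61, .braid 63, .braid 65, .swap 67, .braid 68, .swap 70, .swap 71, .swap 72, .swap 73, .swap 74, .swap 69, .swap 70, .swap 71, .swap 60, .swap 61, .braid 58, .swap 60, .braid 61, .swap 63, .swap 64, .braid 65, .swap 67]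

theorem steps1_ok : runMoves adj steps1 mid1 = some mid2 := by decide +kernel

/-- Some steps. -/
def steps2 : List Move := [.swap 68, .swap 63, .swap 44, .swap 45, .swap 46, .swap 47, .swap 43, .swap 44, .swap 42, .swap 33, .swap 34, .swap 35, .swap 36, .swap 37, .swap 38, .swap 39, .braid 40, .braid 42, .braid 44, .swap 46, .braid 47, .swap 49, .swap 50, .swap 51, .swap 52, .swap 53, .braid 54, .swap 56, .swap 39, .swap 40, .swap 32, .swap 20, .swap 21, .swap 22, .swap 23, .swap 24, .swap 25, .swap 26, .braid 27, .swap 29, .braid 30, .braid 32, .swap 34, .swap 35, .swap 36, .braid 37, .swap 39, .braid 40, .swap 42, .swap 43, .braid 44, .swap 46, .braid 47, .swap 49, .swap 50, .swap 51, .braid 52, .swap 54, .swap 55, .braid 56, .swap 58, .swap 59, .swap 60, .braid 61, .braid 63, .swap 65, .swap 66, .swap 67, .braid 68, .swap 70, .braid 71, .swap 73, .braid 74, .swap 76, .swap 77, .braid 78, .swap 80, .swap 81, .cancel 82, .swap 79, .swap 80, .cancel 81, .swap 75,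 .braid 76, .swap 78, .braid 79, .swap 81, .swap 82, .swap 73, .swap 74, .swap 72, .swap 65, .braid 49, .swap 51, .swap 52, .swap 53, .swap 54, .swap 55, .swap 56, .swap 57, .swap 58, .swap 48, .braid 49, .swap 51, .swap 52, .swap 53, .swap 54, .swap 47, .swap 48, .braid 49, .swap 51, .swap 52, .swap 46, .swap 47, .swap 48, .braid 49, .swap 51, .braid 52, .braid 54, .swap 56, .swap 57, .braid 58, .swap 60, .swap 61, .swap 62, .swap 63, .swap 64, .braid 65, .swap 63, .swap 45, .swap 46, .swap 44, .swap 42, .swap 39, .swap 40, .swap 41, .braid 42, .braid 44, .braid 46, .swap 48, .swap 49, .swap 35, .swap 36, .swap 37, .swap 34, .swap 31, .braid 32, .braid 34, .swap 36, .braid 37, .swap 39, .swap 40, .swap 41, .swap 42, .swap 43, .swap 44, .braid 30, .swap 32, .swap 33, .braid 34, .swap 36, .braid 37, .swap 39, .swap 40, .swap 41, .swap 32, .swap 29, .braid 30, .braid 32, .swap 34, .swap 35, .swap 36, .braid 37, .swap 34, .swap 35, .swap 33, .swap 31, .swap 22, .swap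 23, .swap 24, .swap 25, .swap 26, .swap 27, .swap 28, .swap 29, .swap 30, .braid 31, .braid 33, .braid 35, .swap 37, .braid 38, .swap 40, .braid 41, .swap 43, .braid 44, .swap 46, .swap 47, .swap 48, .braid 49, .braid 36, .swap 38, .swap 39, .swap 40, .swap 35, .braid 36, .swap 38, .swap 34, .swap 30, .swap 31, .braid 32, .braid 34, .swap 36, .swap 37, .braid 38, .braid 40, .swap 42, .swap 43, .swap 44, .braid 45, .swap 47, .swap 24, .swap 25, .swap 26, .braid 22, .swap 24, .swap 25, .braid 26, .swap 28, .swap 29, .swap 30, .swap 31, .swap 32, .swap 33, .swap 34, .braid 35, .braid 18, .swap 20, .swap 21, .braid 22, .swap 24, .swap 25, .braid 26, .swap 28, .swap 29, .swap 20, .swap 8, .swap 9, .swap 10, .swap 11, .swap 12, .swap 13, .swap 14, .braid 15, .swap 17, .braid 18, .braid 20, .swap 22, .swap 23, .swap 24, .swap 25, .braid 26, .swap 28, .braid 29, .swap 31, .swap 32, .braid 33, .swap 35, .braid 36, .swap 38, .swap 39, .braid 40, .swap 42, .braid 43, .swap 45,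 .swap 46, .braid 47, .swap 49, .braid 50, .swap 52, .swap 53, .braid 54, .swap 56, .swap 57, .braid 58, .swap 60, .swap 61, .swap 62, .braid 63, .swap 65, .braid 66, .swap 68, .swap 69, .swap 70, .swap 71, .braid 72, .braid 74, .swap 76, .swap 77, .swap 78, .braid 79]

theorem steps2_ok : runMoves adj steps2 mid2 = some mid3 := by decide +kernel

/-- Some steps. -/
def steps3 : List Move := [.swap 81, .braid 82, .cancel 84, .swap 83, .cancel 84, .swap 76, .swap 77, .swap 75, .swap 73, .braid 64, .swap 66, .swap 67, .swap 68, .swap 69, .swap 70, .swap 71, .swap 72, .braid 73, .braid 75, .braid 77, .swap 79, .swap 80, .swap 81, .swap 82, .cancel 83, .swap 72, .swap 73, .swap 63, .braid 64, .swap 66, .swap 67, .swap 68, .swap 69, .braid 70, .swap 72, .braid 73, .swap 75, .swap 76, .braid 77, .swap 79, .swap 75, .swap 62, .swap 63, .swap 64, .swap 65, .swap 66, .braid 67, .swap 61, .swap 62, .braid 63, .swap 65, .swap 60, .swap 61, .swap 59, .braid 57, .braid 59, .braid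 61, .swap 63, .swap 64, .braid 65, .swap 67, .braid 68, .swap 70, .swap 71, .swap 72, .braid 73, .braid 75, .swap 77, .swap 78, .braid 79, .swap 81, .swap 82, .cancel 83, .swap 64, .swap 65, .swap 66, .swap 67, .swap 68, .swap 69, .swap 70, .braid 62, .swap 64, .swap 65, .swap 66, .swap 61, .braid 62, .swap 64, .swap 46, .swap 47, .swap 48, .swap 49, .swap 50, .braid 44, .swap 46, .swap 47, .swap 48, .swap 43, .braid 44, .swap 46, .swap 42, .swap 43, .braid 44, .braid 46, .braid 48, .braid 50, .swap 52, .swap 53, .swap 54, .swap 55, .swap 56, .swap 57, .swap 58, .swap 59, .swap 60, .swap 61, .braid 62, .braid 64, .braid 66, .swap 68, .swap 69, .braid 70, .swap 72, .swap 73, .swap 74, .swap 75, .braid 76, .swap 59, .swap 45, .braid 43, .braid 45, .swap 47, .swap 48, .swap 49, .swap 50, .swap 51, .swap 52, .braid 53, .swap 55, .swap 56, .braid 57, .braid 59, .swap 61, .swap 62, .swap 50, .swap 48, .swap 41, .swap 42, .braid 39, .braid 37, .swap 39, .braid 40, .braid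 42, .swap 44, .swap 45, .swap 46, .swap 47, .braid 48, .braid 50, .swap 52, .swap 53, .swap 54, .swap 55, .swap 45, .swap 46, .swap 43, .braid 38, .swap 40, .swap 41, .swap 42, .braid 43, .swap 45, .braid 46, .swap 48, .swap 49, .braid 50, .swap 52, .swap 48, .swap 23, .swap 24, .swap 25, .swap 26, .swap 27, .swap 28, .swap 29, .swap 22, .swap 23, .swap 21, .swap 19, .swap 16, .swap 17, .swap 18, .braid 19, .braid 21, .braid 23, .swap 25, .swap 26, .swap 27, .swap 18, .swap 19, .swap 15, .braid 16, .swap 18, .braid 19, .swap 21, .swap 22, .braid 23, .swap 25, .swap 21, .braid 14, .swap 16, .swap 17, .swap 18, .braid 19, .braid 21, .swap 23, .swap 24, .braid 25, .braid 27, .braid 29, .swap 31, .swap 32, .swap 33, .swap 34, .swap 35, .swap 36, .swap 30, .swap 28, .swap 13, .swap 14, .swap 15, .swap 16, .swap 12, .swap 2, .swap 3, .swap 4, .swap 5, .swap 6, .swap 7, .braid 8, .braid 10, .braid 12, .swap 14, .swap 15, .braid 16, .swap 18, .swap 19, .swap 20, .swap 21,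 .braid 22, .braid 5, .swap 7, .swap 8, .braid 0, .swap 2, .swap 3, .swap 4, .braid 5, .swap 7, .braid 8, .swap 10, .swap 11, .braid 12, .swap 14, .swap 15, .braid 16, .swap 18, .swap 19, .braid 20, .swap 22, .braid 23, .swap 25, .swap 26, .swap 27, .braid 28, .braid 30, .swap 32, .swap 33, .swap 34, .swap 35, .braid 36, .swap 38, .swap 39, .swap 40, .swap 41, .swap 42, .braid 43, .swap 45, .braid 46, .braid 48, .swap 50, .swap 51, .braid 52, .swap 54, .braid 55, .swap 57, .swap 58, .braid 59, .swap 61, .braid 62, .swap 64]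

theorem steps3_ok : runMoves adj steps3 mid3 = some mid4 := by decide +kernel

/-- Some steps. -/
def steps4 : List Move := [.swap 65, .braid 66, .swap 68, .swap 69, .braid 70, .swap 72, .swap 73, .braid 74, .swap 76, .braid 77, .swap 79, .swap 80, .swap 81, .cancel 82, .braid 75, .swap 77, .swap 78, .swap 79, .swap 80, .cancel 81, .swap 79, .swap 80, .swap 78, .swap 77, .braid 78, .braid 80, .cancel 82, .swap 79, .swap 68, .swap 69, .swap 70, .swap 71, .swap 67, .swap 68, .swap 66, .swap 51, .swap 52, .swap 53, .swap 54, .swap 55, .braid 49, .swap 51, .swap 52, .swap 53, .swap 48, .braid 49, .swap 51, .swap 47, .braid 45, .braid 47, .swap 49, .swap 50, .braid 51, .braid 53, .braid 55, .swap 57, .swap 58, .swap 59, .swap 60, .swap 61, .swap 62, .swap 63, .braid 64, .braid 66, .braid 68, .swap 70, .braid 71, .swap 73, .swap 74, .swap 75, .swap 76, .braid 77, .braid 79, .cancel 81, .swap 75, .swap 76, .swap 77, .swap 73, .swap 74, .swap 72, .swap 73, .braid 74, .swap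 76, .braid 77, .swap 79, .swap 80, .swap 81, .braid 82, .swap 84, .cancel 85, .swap 79, .swap 80, .swap 70, .swap 71, .swap 60, .swap 61, .swap 59, .braid 57, .braid 59, .braid 61, .swap 63, .swap 64, .swap 65, .swap 66, .swap 67, .swap 68, .swap 69, .swap 70, .braid 71, .swap 68, .swap 69, .swap 62, .swap 63, .swap 60, .swap 54, .braid 55, .swap 57, .swap 58, .swap 59, .braid 60, .swap 62, .braid 63, .swap 65, .swap 66, .swap 67, .swap 68, .braid 69, .swap 71, .braid 72, .swap 74, .swap 75, .swap 76, .braid 77, .swap 79, .braid 80, .swap 82, .swap 83, .cancel 84, .swap 75, .swap 76, .swap 77, .swap 78, .swap 74, .swap 65, .swap 66, .swap 62, .swap 63, .swap 64, .swap 65, .braid 66, .swap 57, .swap 58, .swap 52, .swap 53, .swap 54, .braid 55, .swap 57, .braid 58, .swap 60, .swap 61, .braid 62, .swap 64, .swap 60, .swap 44, .swap 45, .braid 42, .swap 44, .braid 45, .swap 47, .swap 48, .swap 49, .swap 50, .swap 51, .swap 52, .swap 53, .swap 54, .braid 55, .swap 57,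 .braid 58, .braid 60, .swap 62, .swap 63, .braid 64, .swap 66, .braid 67, .swap 69, .swap 70, .swap 71, .braid 72, .braid 74, .swap 76, .swap 77, .braid 78, .swap 80, .swap 81, .swap 82, .cancel 83, .swap 77, .swap 78, .swap 79, .swap 80, .swap 81, .swap 82, .swap 76, .swap 77, .swap 75, .swap 63, .swap 64, .swap 65, .swap 66, .swap 67, .swap 68, .swap 69, .swap 70, .swap 71, .swap 72, .braid 73, .braid 75, .braid 77, .swap 79, .swap 80, .swap 72, .swap 73, .braid 61, .swap 63, .swap 64, .swap 65, .swap 60, .braid 61, .swap 63, .braid 51, .swap 53, .swap 54, .swap 55, .swap 56, .swap 57, .swap 58, .swap 59, .swap 60, .braid 61, .braid 63, .braid 65, .swap 67, .swap 68, .swap 69, .braid 70, .swap 72, .braid 73, .swap 75, .swap 76, .braid 77, .swap 79, .braid 80, .braid 82, .cancel 84, .swap 81, .braid 67, .swap 69, .swap 70, .swap 71, .swap 72, .swap 73, .swap 74, .swap 66, .braid 67, .swap 69, .swap 70, .swap 71, .swap 65, .swap 66, .braid 67, .swap 69, .swap 64,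 .swap 65, .swap 63, .swap 58, .braid 56, .braid 58, .swap 60, .swap 61, .swap 55, .swap 56, .braid 53, .swap 55, .braid 56, .swap 58, .swap 59, .swap 60, .braid 61, .braid 63, .braid 65, .swap 67, .swap 68, .braid 69, .braid 71, .swap 73, .braid 74, .swap 76, .swap 77, .swap 78]

theorem steps4_ok : runMoves adj steps4 mid4 = some mid5 := by decide +kernel

/-- Some steps. -/
def steps5 : List Move := [.braid 79, .braid 81, .cancel 83, .swap 78, .swap 79, .swap 80, .swap 81, .swap 77, .swap 78, .braid 75, .swap 77, .braid 78, .swap 80, .braid 81, .cancel 83, .swap 80, .swap 81, .swap 79, .swap 60, .swap 61, .swap 62, .swap 63, .swap 59, .swap 60, .braid 57, .swap 59, .braid 60, .swap 62, .braid 63, .swap 65, .swap 66, .swap 67, .swap 68, .swap 56, .braid 57, .swap 59, .braid 60, .swap 62, .braid 63, .swap 65, .swap 66, .braid 54, .swap 56, .swap 57, .swap 58, .swap 53, .braid 54, .swap 56, .swap 52, .swap 50, .braid 32, .swap 34, .swap 35, .swap 36, .swap 37, .swap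 38, .swap 33, .swap 34, .swap 35, .swap 31, .swap 29, .swap 30, .braid 31, .swap 33, .swap 29, .swap 28, .braid 29, .swap 31, .swap 27, .swap 26, .braid 27, .swap 29, .swap 30, .braid 31, .braid 33, .braid 35, .swap 37, .braid 38, .swap 40, .swap 41, .swap 42, .swap 43, .swap 44, .swap 45, .swap 46, .braid 47, .swap 49, .braid 50, .braid 52, .swap 54, .swap 55, .braid 56, .braid 58, .swap 60, .swap 61, .swap 62, .braid 63, .swap 65, .braid 66, .braid 68, .swap 70, .swap 71, .swap 72, .swap 73, .swap 74, .swap 75, .swap 76, .braid 77, .braid 79, .braid 81, .swap 83, .swap 84, .braid 85, .swap 87, .cancel 88, .swap 80, .swap 73, .braid 74, .swap 76, .swap 77, .braid 78, .braid 80, .swap 82, .swap 83, .braid 71, .swap 73, .swap 74, .swap 75, .swap 76, .swap 70, .braid 71, .swap 73, .swap 69, .swap 67, .swap 48, .swap 49, .swap 47, .swap 46, .braid 47, .braid 49, .swap 51, .swap 52, .swap 53, .swap 54, .swap 55, .swap 56, .swap 50, .swap 48, .swap 43, .swap 44, .swap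 40, .swap 41, .swap 42, .swap 43, .braid 44, .swap 46, .swap 47, .braid 48, .braid 50, .swap 52, .swap 53, .swap 43, .swap 44, .swap 45, .swap 46, .swap 41, .swap 37, .swap 38, .swap 39, .swap 40, .braid 41, .swap 43, .swap 38, .swap 39, .swap 36, .swap 34, .swap 35, .braid 36, .swap 38, .braid 39, .swap 41, .swap 42, .braid 43, .swap 45, .braid 46, .swap 48, .swap 49, .braid 50, .swap 52, .braid 53, .swap 55, .braid 56, .swap 58, .swap 59, .swap 60, .swap 61, .swap 62, .braid 63, .swap 65, .swap 66, .braid 67, .braid 69, .swap 71, .swap 72, .braid 73, .swap 75, .braid 76, .swap 78, .swap 79, .braid 80, .swap 82, .braid 83, .swap 85, .swap 86, .cancel 87, .swap 78, .swap 66, .swap 67, .swap 48, .swap 35, .swap 36, .swap 37, .braid 33, .swap 35, .swap 36, .braid 37, .swap 39, .swap 40, .swap 41, .swap 42, .braid 43, .swap 45, .braid 46, .braid 48, .swap 50, .swap 51, .swap 52, .braid 53, .swap 55, .braid 56, .swap 58, .swap 59, .swap 60, .braid 61, .swap 63, .braid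 64, .swap 66, .braid 67, .swap 69, .swap 70, .swap 71, .swap 72, .braid 73, .swap 75, .braid 76, .braid 78, .swap 80, .swap 81, .swap 82, .braid 83, .swap 85, .swap 86, .cancel 87, .swap 81, .swap 82, .swap 83, .swap 84, .swap 85, .swap 80, .swap 77, .braid 78, .braid 80, .swap 82, .swap 83, .swap 84, .braid 85, .cancel 87, .swap 83, .swap 84, .swap 85, .swap 86, .swap 82, .swap 83, .swap 84, .swap 81, .swap 82, .swap 80, .swap 63, .swap 64, .swap 62, .braid 60, .braid 62, .braid 64, .swap 66, .swap 67, .swap 68, .swap 69, .swap 70, .swap 71, .swap 72]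

theorem steps5_ok : runMoves adj steps5 mid5 = some mid6 := by decide +kernel

/-- Some steps. -/
def steps6 : List Move := [.swap 73, .swap 65, .swap 66, .swap 63, .swap 64, .swap 61, .swap 62, .swap 59, .swap 60, .swap 61, .braid 62, .braid 64, .braid 66, .swap 68, .swap 69, .braid 57, .swap 59, .swap 60, .swap 61, .swap 62, .swap 56, .braid 57, .swap 59, .swap 54, .swap 55, .swap 53, .swap 36, .swap 37, .swap 38, .swap 39, .swap 40, .swap 41, .swap 42, .swap 43, .swap 35, .swap 36, .swap 34, .swap 26, .swap 27, .swap 28, .swap 29, .swap 30, .swap 31, .braid 32, .braid 34, .braid 36, .swap 38, .swap 39, .swap 29, .swap 30, .swap 31, .swap 32, .braid 27, .swap 29, .swap 25, .swap 24, .braid 25, .swap 27, .swap 28, .braid 29, .swap 31, .braid 32, .swap 34, .swap 35, .braid 36, .swap 38, .braid 39, .swap 41, .swap 42, .braid 43, .swap 45, .swap 46, .swap 47, .swap 48, .braid 49, .swap 51, .swap 52, .braid 53, .braid 55, .swap 57, .swap 58, .braid 59, .swap 61, .braid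 62, .swap 64, .swap 65, .braid 66, .swap 68, .braid 69, .swap 71, .swap 72, .braid 73, .swap 75, .swap 76, .swap 77, .swap 78, .swap 79, .braid 80, .braid 82, .braid 84, .braid 86, .cancel 88, .swap 85, .swap 68, .swap 69, .swap 70, .swap 71, .swap 72, .swap 73, .swap 74, .swap 67, .braid 65, .braid 67, .swap 69, .swap 70, .swap 71, .swap 72, .braid 63, .swap 65, .swap 66, .braid 67, .swap 69, .swap 70, .swap 65, .swap 62, .braid 63, .braid 65, .swap 67, .swap 68, .swap 58, .swap 59, .swap 60, .swap 61, .swap 62, .swap 63, .braid 56, .swap 58, .swap 59, .swap 60, .swap 55, .braid 56, .swap 58, .swap 38, .swap 39, .swap 40, .swap 41, .swap 42, .swap 43, .swap 44, .swap 45, .swap 37, .braid 35, .braid 37, .swap 39, .swap 40, .swap 41, .swap 42, .braid 33, .swap 35, .swap 36, .braid 37, .swap 39, .swap 40, .swap 35, .swap 32, .braid 33, .braid 35, .swap 37, .swap 38, .swap 28, .swap 29, .swap 30, .swap 31, .swap 32, .swap 33, .braid 26, .swap 28, .swap 29, .swap 30,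 .swap 25, .braid 26, .swap 28, .swap 14, .swap 15, .swap 16, .swap 17, .swap 13, .swap 14, .swap 12, .swap 3, .swap 4, .swap 5, .swap 6, .swap 7, .swap 8, .swap 9, .braid 10, .braid 12, .braid 14, .swap 16, .braid 17, .swap 19, .swap 20, .swap 21, .swap 22, .swap 23, .swap 24, .swap 25, .braid 26, .braid 28, .braid 30, .swap 32, .braid 33, .swap 35, .swap 36, .swap 37, .braid 38, .braid 40, .braid 42, .swap 44, .braid 45, .swap 47, .swap 48, .swap 49, .swap 50, .swap 51, .swap 52, .swap 53, .swap 54, .swap 55, .braid 56, .braid 58, .braid 60, .swap 62, .braid 63, .swap 65, .swap 66, .swap 67, .braid 68, .braid 70, .braid 72, .braid 74, .swap 76, .swap 77, .swap 78, .swap 79, .swap 80, .swap 81, .swap 82, .braid 83, .braid 85, .cancel 87, .swap 82, .swap 83, .swap 73, .braid 74, .swap 76, .swap 77, .swap 78, .swap 79, .braid 80, .swap 82, .braid 83, .swap 85, .swap 86, .swap 87, .braid 88, .swap 90, .cancel 91, .swap 85, .swap 86, .swap 67, .swap 68, .swap 69, .swap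 70, .swap 71, .swap 72, .swap 73, .swap 74, .braid 75, .swap 77, .swap 78, .swap 66, .swap 67, .braid 64, .swap 66, .braid 67, .swap 69, .swap 70, .swap 71, .swap 72, .braid 73, .swap 75, .swap 69, .swap 70, .swap 71, .swap 62, .swap 61, .braid 62, .swap 64]

theorem steps6_ok : runMoves adj steps6 mid6 = some mid7 := by decide +kernel

/-- Some steps. -/
def steps7 : List Move := [.swap 65, .swap 66, .braid 67, .swap 69, .swap 49, .swap 50, .swap 51, .swap 48, .swap 49, .swap 44, .swap 45, .braid 46, .swap 48, .braid 49, .braid 51, .swap 53, .swap 54, .swap 55, .swap 56, .swap 57, .swap 58, .swap 59, .swap 60, .swap 52, .swap 50, .swap 37, .swap 38, .swap 39, .swap 40, .swap 41, .swap 42, .swap 43, .swap 44, .swap 45, .braid 46, .swap 48, .swap 49, .braid 50, .braid 52, .swap 54, .swap 55, .swap 42, .braid 43, .swap 45, .swap 46, .swap 47, .swap 48, .swap 36, .swap 37, .braid 34, .swap 36, .braid 37, .swap 39, .swap 40, .swap 41, .swap 42, .braid 43, .swap 45, .swap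 39, .swap 40, .swap 41, .swap 32, .swap 31, .braid 32, .swap 34, .swap 35, .swap 36, .braid 37, .swap 39, .braid 20, .swap 22, .swap 23, .swap 24, .swap 25, .swap 26, .swap 27, .swap 28, .swap 29, .swap 30, .swap 21, .swap 22, .swap 19, .swap 20, .swap 16, .swap 17, .swap 18, .swap 6, .swap 7, .swap 5, .braid 3, .braid 5, .braid 7, .swap 9, .swap 10, .swap 11, .swap 12, .swap 13, .swap 14, .swap 15, .swap 16, .swap 17, .braid 18, .braid 20, .braid 22, .swap 24, .swap 25, .swap 16, .swap 17, .swap 18, .swap 14, .swap 15, .swap 8, .swap 9, .swap 6, .braid 1, .swap 3, .swap 4, .swap 5, .braid 6, .swap 8, .braid 9, .swap 11, .swap 12, .swap 13, .swap 14, .braid 15, .swap 17, .braid 18, .swap 20, .swap 21, .braid 22, .swap 24, .braid 25, .swap 27, .swap 28, .swap 29, .braid 30, .swap 32, .swap 33, .swap 34, .swap 35, .swap 36, .braid 37, .braid 39, .braid 41, .swap 43, .swap 44, .braid 45, .swap 47, .braid 48, .swap 50, .swap 51, .braid 52, .swap 54, .braid 55, .swap 57,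 .swap 58, .swap 59, .braid 60, .swap 62, .swap 63, .swap 64, .swap 65, .swap 66, .braid 67, .braid 69, .braid 71, .swap 73, .swap 74, .braid 75, .swap 77, .braid 78, .swap 80, .swap 81, .swap 82, .braid 83, .swap 85, .braid 86, .swap 88, .swap 89, .cancel 90, .swap 74, .swap 75, .swap 76, .braid 72, .swap 74, .swap 75, .braid 76, .swap 78, .swap 79, .swap 80, .swap 81, .swap 82, .braid 83, .swap 85, .swap 71, .braid 72, .swap 74, .swap 75, .braid 76, .swap 78, .swap 79, .swap 80, .braid 81, .swap 83, .swap 68, .braid 66, .braid 68, .swap 70, .swap 71, .swap 72, .swap 73, .swap 74, .swap 75, .swap 76, .braid 77, .swap 79, .swap 69, .swap 67, .swap 65, .swap 66, .braid 67, .braid 69, .swap 71, .swap 72, .swap 73, .swap 74, .braid 75, .swap 77, .swap 64, .swap 65, .swap 66, .swap 67, .swap 68, .swap 69, .braid 70, .swap 72, .swap 73, .swap 63, .swap 64, .braid 61, .swap 63, .braid 64, .swap 66, .swap 67, .braid 68, .swap 70, .swap 71, .swap 66, .swap 60, .braid 61, .swap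 63, .braid 64, .braid 66, .swap 68, .swap 69, .swap 54, .swap 55, .swap 53, .braid 51, .braid 53, .braid 55, .swap 57, .swap 58, .swap 59, .swap 60, .swap 61, .swap 62, .swap 63, .swap 64, .swap 56, .swap 57, .swap 54, .braid 49, .swap 51, .swap 52, .swap 53, .braid 54, .swap 56, .braid 57, .swap 59, .swap 60, .swap 61, .swap 51, .swap 52, .swap 48, .braid 49, .swap 51, .braid 52, .swap 54, .swap 55, .swap 56, .braid 57, .swap 59, .swap 44, .swap 45, .swap 46, .braid 42, .swap 44, .swap 45]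

theorem steps7_ok : runMoves adj steps7 mid7 = some mid8 := by decide +kernel

/-- Some steps. -/
def steps8 : List Move := [.braid 46, .swap 48, .swap 49, .swap 50, .swap 51, .swap 52, .braid 53, .swap 55, .swap 41, .braid 42, .swap 44, .swap 45, .braid 46, .swap 48, .swap 49, .swap 50, .braid 51, .swap 53, .swap 38, .braid 36, .braid 38, .swap 40, .swap 41, .swap 42, .swap 43, .swap 44, .swap 45, .swap 46, .braid 47, .swap 49, .swap 39, .swap 37, .swap 35, .swap 36, .braid 37, .braid 39, .swap 41, .swap 42, .swap 43, .swap 44, .braid 45, .swap 47, .swap 34, .swap 35, .swap 36, .swap 37, .swap 38, .swap 39, .braid 40, .swap 42, .swap 43, .swap 33, .swap 34, .braid 31, .swap 33, .braid 34, .swap 36, .swap 37, .braid 38, .swap 40, .swap 41, .swap 36, .swap 30, .braid 31, .swap 33, .braid 34, .braid 36, .swap 38, .swap 39, .swap 24, .swap 25, .swap 23, .braid 21, .braid 23, .braid 25, .swap 27, .swap 28, .swap 29, .swap 30, .swap 31, .swap 32, .swap 33, .swap 34, .swap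 26, .swap 27, .swap 24, .braid 19, .swap 21, .swap 22, .swap 23, .braid 24, .swap 26, .braid 27, .swap 29, .swap 30, .swap 31, .swap 21, .swap 22, .swap 18, .braid 19, .swap 21, .braid 22, .swap 24, .swap 25, .swap 26, .braid 27, .swap 29, .braid 16, .swap 18, .swap 19, .swap 20, .swap 21, .swap 22, .braid 23, .swap 25, .swap 15, .braid 16, .swap 18, .swap 19, .swap 20, .braid 21, .swap 23, .swap 13, .swap 14, .swap 15, .swap 16, .braid 17, .swap 19, .swap 12, .swap 13, .swap 14, .braid 15, .swap 17, .swap 8, .swap 9, .braid 10, .swap 12, .swap 13, .swap 7, .braid 8, .swap 10, .swap 11, .braid 6, .swap 8, .swap 9, .braid 4, .swap 6, .swap 7, .swap 8, .braid 9, .braid 11, .braid 13, .swap 15, .swap 16, .braid 17, .braid 19, .swap 21, .swap 22, .braid 23, .braid 25, .swap 27, .swap 28, .braid 29, .braid 31, .swap 33, .braid 34, .swap 36, .swap 37, .swap 38, .braid 39, .braid 41, .braid 43, .swap 45, .swap 46, .braid 47, .braid 49, .swap 51, .swap 52, .braid 53, .braid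 55, .swap 57, .swap 58, .braid 59, .braid 61, .swap 63, .braid 64, .swap 66, .swap 67, .swap 68, .braid 69, .braid 71, .braid 73, .swap 75, .swap 76, .braid 77, .braid 79, .swap 81, .swap 82, .braid 83, .braid 85, .swap 87, .swap 88, .cancel 89, .swap 88, .cancel 89, .braid 86, .cancel 88, .swap 82, .swap 83, .braid 80, .swap 82, .braid 83, .swap 85, .swap 86, .cancel 87, .swap 82, .swap 83, .swap 84, .braid 85, .cancel 87, .cancel 86, .swap 76, .swap 77, .braid 74, .swap 76, .braid 77, .swap 79, .swap 80, .swap 81, .swap 82, .swap 83, .swap 84, .cancel 85, .cancel 84, .swap 82, .cancel 83, .swap 81, .cancel 82, .swap 76, .swap 77, .swap 78, .braid 79, .cancel 81, .cancel 80, .swap 68, .swap 69, .swap 70, .swap 71, .swap 67, .swap 68, .braid 65, .swap 67, .braid 68, .swap 70, .braid 71, .swap 73, .swap 74, .swap 75, .swap 76, .swap 77, .swap 78, .cancel 79, .cancel 78, .swap 76, .cancel 77, .swap 75, .cancel 76, .swap 70, .swap 71, .swap 72, .braid 73, .cancel 75,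 .cancel 74, .swap 67, .swap 68, .swap 69, .swap 70, .swap 71, .swap 72, .cancel 73, .cancel 72, .swap 70, .cancel 71, .swap 69, .cancel 70, .swap 63, .swap 62, .braid 63, .swap 65, .swap 66, .braid 67, .cancel 69, .cancel 68, .swap 58, .swap 59, .swap 60, .swap 61, .braid 56, .swap 58, .swap 59]

theorem steps8_ok : runMoves adj steps8 mid8 = some mid9 := by decide +kernel

/-- Some steps. -/
def steps9 : List Move := [.swap 60, .braid 61, .swap 63, .swap 64, .swap 65, .swap 66, .cancel 67, .cancel 66, .swap 64, .cancel 65, .swap 60, .swap 61, .swap 62, .swap 63, .cancel 64, .swap 58, .swap 59, .swap 60, .braid 61, .cancel 63, .cancel 62, .swap 52, .swap 53, .braid 50, .swap 52, .braid 53, .swap 55, .swap 56, .swap 57, .swap 58, .swap 59, .swap 60, .cancel 61, .cancel 60, .cancel 59, .cancel 58, .swap 52, .swap 53, .swap 54, .braid 55, .cancel 57, .cancel 56, .swap 46, .swap 47, .braid 44, .swap 46, .braid 47, .swap 49, .swap 50, .swap 51, .swap 52, .swap 53, .swap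 54, .cancel 55, .cancel 54, .swap 52, .cancel 53, .swap 51, .cancel 52, .swap 46, .swap 47, .swap 48, .braid 49, .cancel 51, .cancel 50, .swap 38, .swap 39, .swap 40, .swap 41, .swap 37, .swap 38, .braid 35, .swap 37, .braid 38, .swap 40, .braid 41, .swap 43, .swap 44, .swap 45, .swap 46, .swap 47, .swap 48, .cancel 49, .cancel 48, .swap 46, .cancel 47, .swap 45, .cancel 46, .swap 40, .swap 41, .swap 42, .braid 43, .cancel 45, .cancel 44, .swap 37, .swap 38, .swap 39, .swap 40, .swap 41, .swap 42, .cancel 43, .cancel 42, .swap 40, .cancel 41, .swap 39, .cancel 40, .swap 33, .swap 32, .braid 33, .swap 35, .swap 36, .braid 37, .cancel 39, .cancel 38, .swap 28, .swap 29, .swap 30, .swap 31, .braid 26, .swap 28, .swap 29, .swap 30, .braid 31, .swap 33, .swap 34, .swap 35, .swap 36, .cancel 37, .cancel 36, .swap 34, .cancel 35, .swap 30, .swap 31, .swap 32, .swap 33, .cancel 34, .swap 28, .swap 29, .swap 30, .braid 31, .cancel 33, .cancel 32, .swap 22, .swap 23, .braid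 20, .swap 22, .braid 23, .swap 25, .swap 26, .swap 27, .swap 28, .swap 29, .swap 30, .cancel 31, .cancel 30, .cancel 29, .cancel 28, .swap 22, .swap 23, .swap 24, .braid 25, .cancel 27, .cancel 26, .swap 16, .swap 17, .braid 14, .swap 16, .braid 17, .swap 19, .swap 20, .swap 21, .swap 22, .swap 23, .swap 24, .cancel 25, .cancel 24, .swap 22, .cancel 23, .swap 21, .cancel 22, .swap 16, .swap 17, .swap 18, .braid 19, .cancel 21, .cancel 20, .swap 8, .swap 9, .swap 10, .swap 11, .swap 7, .swap 8, .braid 5, .swap 7, .braid 8, .swap 10, .braid 11, .swap 13, .swap 14, .swap 15, .swap 16, .swap 17, .swap 18, .cancel 19, .cancel 18, .swap 16, .cancel 17, .swap 15, .cancel 16, .swap 10, .swap 11, .swap 12, .braid 13, .cancel 15, .cancel 14, .swap 7, .swap 8, .swap 9, .swap 10, .swap 11, .swap 12, .cancel 13, .cancel 12, .swap 10, .cancel 11, .swap 9, .cancel 10, .swap 3, .swap 2, .braid 3, .swap 5, .swap 6, .braid 7, .cancel 9, .cancel 8, .swap 7, .cancel 8, .swap 5, .swap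 6, .cancel 7, .swap 2, .swap 3, .swap 4, .swap 5, .cancel 6, .swap 1, .braid 2, .swap 4, .cancel 5, .swap 3, .cancel 4, .swap 2, .swap 3, .cancel 4, .swap 2, .swap 1, .braid 2, .cancel 4, .swap 0, .swap 1, .swap 2, .cancel 3, .swap 0, .swap 1, .cancel 2, .cancel 1, .cancel 0]

theorem steps9_ok : runMoves adj steps9 mid9 = some mid10 := by decide +kernel

theorem triple_eq : triple = mid0 := by decide +kernel

/-- The value of the triple product in a Coxeter system. -/
theorem triple_one {M : Type*} [Monoid M] {f : Gen → M}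
    (hc : ∀ a b, adj a b = false → f a * f b = f b * f a)
    (hb : ∀ a b, adj a b = true → f a * f b * f a = f b * f a * f b)
    (hs : ∀ a, f a * f a = 1) : (triple.map f).prod = 1 := by
  rw [triple_eq]
  refine (runMoves_eval hc hb _ _ _ (fun _ => hs) steps0_ok).trans ?_
  refine (runMoves_eval hc hb _ _ _ (fun _ => hs) steps1_ok).trans ?_
  refine (runMoves_eval hc hb _ _ _ (fun _ => hs) steps2_ok).trans ?_
  refine (runMoves_eval hc hb _ _ _ (fun _ => hs) steps3_ok).trans ?_
  refine (runMoves_eval hc hb _ _ _ (fun _ => hs) steps4_ok).trans ?_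
  refine (runMoves_eval hc hb _ _ _ (fun _ => hs) steps5_ok).trans ?_
  refine (runMoves_eval hc hb _ _ _ (fun _ => hs) steps6_ok).trans ?_
  refine (runMoves_eval hc hb _ _ _ (fun _ => hs) steps7_ok).trans ?_
  refine (runMoves_eval hc hb _ _ _ (fun _ => hs) steps8_ok).trans ?_
  refine (runMoves_eval hc hb _ _ _ (fun _ => hs) steps9_ok).trans ?_
  rfl

end Cfsg.Agent.FiMult
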